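import Groth.Prelude.Def_FlatFun
import Mathlib

/-!
# Weil restriction of closed subschemes along projective algebras
-/

set_option autoImplicit false
set_option linter.style.haveILetI false
set_option backward.isDefEq.respectTransparency.types false

universe u

open CategoryTheory CategoryTheory.Limits AlgebraicGeometry Opposite
open scoped TensorProduct

noncomputable section

namespace Groth.Agent.WeilClosed4

/-- Projective modules have contents. -/
theorem exists_content {A M : Type u} [CommRing A] [AddCommGroup M] [Module A M] [Module.Projective A M] (z : M) :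
    ∃ c : Ideal A, c.FG ∧
      ∀ (C : Type u) [CommRing C] [Algebra A C], (1 : C) ⊗ₜ[A] z = 0 ↔ ∀ r ∈ c, algebraMap A C r = 0 := by
  classical
  obtain ⟨s, hs⟩ := Module.projective_def.1 (inferInstance : Module.Projective A M)
  refine ⟨Ideal.span ((s z).support.image fun k => s z k : Finset A), ⟨_, rfl⟩, fun C _ _ => ⟨fun h => ?_, fun h => ?_⟩⟩
  · suffices Ideal.span (((s z).support.image fun k => s z k : Finset A) : Set A) ≤ RingHom.ker (algebraMap A C) from
      fun r hr => this hr
    rw [Ideal.span_le]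
    intro r hr
    obtain ⟨k, -, rfl⟩ := Finset.mem_image.1 hr
    have h1 := congrArg ((TensorProduct.rid A C).toLinearMap ∘ₗ ((Finsupp.lapply k).comp s).lTensor C) h
    simpa [Algebra.smul_def] using h1
  · have hz : z = ∑ k ∈ (s z).support, s z k • (k : M) := by
      conv_lhs => rw [← hs z, Finsupp.linearCombination_apply, Finsupp.sum]
      rfl
    rw [hz, TensorProduct.tmul_sum]
    refine Finset.sum_eq_zero fun k hk => ?_
    rw [TensorProduct.tmul_smul, TensorProduct.smul_tmul', Algebra.smul_def,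
      h _ (Ideal.subset_span (Finset.mem_image.2 ⟨k, hk, rfl⟩)), zero_mul, TensorProduct.zero_tmul]

/-- Contents of ideals. -/
theorem exists_content_ideal {A B : Type u} [CommRing A] [CommRing B] [Algebra A B] [Module.Projective A B] (J : Ideal B) :
    ∃ c : Ideal A, (J.FG → c.FG) ∧ ∀ (C : Type u) [CommRing C] [Algebra A C],
      J ≤ RingHom.ker (Algebra.TensorProduct.includeRight : B →ₐ[A] C ⊗[A] B) ↔ ∀ r ∈ c, algebraMap A C r = 0 := by
  classical
  choose c hc hcC using fun z : B => exists_content (A := A) z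
  by_cases hJ : J.FG
  · obtain ⟨t, ht⟩ := hJ
    refine ⟨t.sup c, fun _ => Submodule.fg_finset_sup t c fun z _ => hc z, fun C _ _ => ⟨fun h => ?_, fun h => ?_⟩⟩
    · suffices t.sup c ≤ RingHom.ker (algebraMap A C) from fun r hr => this hr
      exact Finset.sup_le fun z hz r hr => (hcC z C).1 (h (ht ▸ Ideal.subset_span hz)) r hr
    · rw [← ht]
      exact Ideal.span_le.2 fun z hz => (hcC z C).2 fun r hr => h r (Finset.le_sup (f := c) hz hr)
  · refine ⟨⨆ z : J, c z, fun h => absurd h hJ, fun C _ _ => ⟨fun h => ?_, fun h z hz => ?_⟩⟩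
    · suffices (⨆ z : J, c z) ≤ RingHom.ker (algebraMap A C) from fun r hr => this hr
      exact iSup_le fun z r hr => (hcC z C).1 (h z.2) r hr
    · exact (hcC z C).2 fun r hr => h r (le_iSup (fun w : J => c w) ⟨z, hz⟩ hr)

theorem isIso_snd_iff {W Y V : Scheme.{u}} (i : Y ⟶ W) [Mono i] (w : V ⟶ W) :
    IsIso (pullback.snd i w) ↔ ∃ l, l ≫ i = w := by
  constructor
  · intro _
    exact ⟨inv (pullback.snd i w) ≫ pullback.fst i w, by rw [Category.assoc, pullback.condition, IsIso.inv_hom_id_assoc]⟩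
  · rintro ⟨l, hl⟩
    refine ⟨pullback.lift l (𝟙 V) (by rw [hl, Category.id_comp]), ?_, pullback.lift_snd _ _ _⟩
    rw [← cancel_mono (pullback.snd i w), Category.assoc, pullback.lift_snd, Category.comp_id, Category.id_comp]

theorem le_ker_iff_factor {B D : Type u} [CommRing B] [CommRing D] (J : Ideal B) (φ : B →+* D) :
    J ≤ RingHom.ker φ ↔
      ∃ l, l ≫ Spec.map (CommRingCat.ofHom (Ideal.Quotient.mk J)) = Spec.map (CommRingCat.ofHom φ) := by
  constructor
  · intro h
    refine ⟨Spec.map (CommRingCat.ofHom (Ideal.Quotient.lift J φ h)), ?_⟩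
    rw [← Spec.map_comp, ← CommRingCat.ofHom_comp, Ideal.Quotient.lift_comp_mk]
  · rintro ⟨l, hl⟩ z hz
    obtain ⟨ψ, rfl⟩ := Spec.map_surjective l
    rw [← Spec.map_comp] at hl
    have := congrArg (fun m => m.hom z) (Spec.map_injective hl)
    show φ z = 0
    refine this.symm.trans ?_
    show ψ.hom (Ideal.Quotient.mk J z) = 0
    rw [Ideal.Quotient.eq_zero_iff_mem.2 hz, map_zero]

variable {A B : Type u} [CommRing A] [CommRing B] [Algebra A B] {Y : Scheme.{u}} (i : Y ⟶ Spec (CommRingCat.of B))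

/-- The condition. -/
def P (T : Over (Spec (CommRingCat.of A))) : Prop :=
  IsIso (pullback.snd i (pullback.fst (Spec.map (CommRingCat.ofHom (algebraMap A B))) T.hom))

variable [IsClosedImmersion i]

theorem P_iff (T : Over (Spec (CommRingCat.of A))) :
    P i T ↔ ∃ l, l ≫ i = pullback.fst (Spec.map (CommRingCat.ofHom (algebraMap A B))) T.hom :=
  isIso_snd_iff i _

theorem P_of_hom ⦃T T₀ : Over (Spec (CommRingCat.of A))⦄ (k : T ⟶ T₀) (h : P i T₀) : P i T := by
  obtain ⟨l, hl⟩ := (P_iff i T₀).1 h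
  refine (P_iff i T).2 ⟨pullback.map _ T.hom _ T₀.hom (𝟙 _) k.left (𝟙 _) (by simp) (by simp [Over.w k]) ≫ l, ?_⟩
  rw [Category.assoc, hl, pullback.lift_fst, Category.comp_id]

/-- The Weil restriction of a closed subscheme along a projective algebra. -/
theorem exists_representable [Module.Projective A B] [Algebra.FinitePresentation A B] :
    ∃ Z : Over (Spec (CommRingCat.of A)), IsClosedImmersion Z.hom ∧
      Nonempty ((FlatFun.genPSp (Spec (CommRingCat.of A)) (P i)).RepresentableBy Z) ∧
      (LocallyOfFinitePresentation (i ≫ Spec.map (CommRingCat.ofHom (algebraMap A B))) →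
        LocallyOfFinitePresentation Z.hom) := by
  obtain ⟨J, φ, hφ⟩ := (IsClosedImmersion.Spec_iff (f := i)).1 inferInstance
  obtain ⟨c, hcfg, hc⟩ := exists_content_ideal (A := A) J
  let Z : Over (Spec (CommRingCat.of A)) := Over.mk (Spec.map (CommRingCat.ofHom (Ideal.Quotient.mk c)))
  haveI hZi : IsClosedImmersion Z.hom := IsClosedImmersion.spec_of_surjective _ Ideal.Quotient.mk_surjective
  have haff : ∀ (C : Type u) [CommRing C] [Algebra A C],
      P i (Over.mk (Spec.map (CommRingCat.ofHom (algebraMap A C)))) ↔ ∀ r ∈ c, algebraMap A C r = 0 := by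
    intro C _ _
    rw [P_iff, ← hc C]
    let e := pullbackSymmetry (Spec.map (CommRingCat.ofHom (algebraMap A B)))
      (Spec.map (CommRingCat.ofHom (algebraMap A C))) ≪≫ pullbackSpecIso A C B
    have he : e.hom ≫ Spec.map (CommRingCat.ofHom
        (Algebra.TensorProduct.includeRight : B →ₐ[A] C ⊗[A] B).toRingHom) = pullback.fst _ _ := by
      simp only [e, Iso.trans_hom, Category.assoc]
      exact (congrArg _ (pullbackSpecIso_hom_snd A C B)).trans (pullbackSymmetry_hom_comp_snd _ _)
    refine Iff.trans ?_ (le_ker_iff_factor J _).symm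
    constructor
    · rintro ⟨l, hl⟩
      refine ⟨e.inv ≫ l ≫ φ.hom, ?_⟩
      rw [Category.assoc, Category.assoc, ← hφ, hl, Iso.inv_comp_eq]
      exact he.symm
    · rintro ⟨l, hl⟩
      refine ⟨e.hom ≫ l ≫ φ.inv, ?_⟩
      rw [hφ, Category.assoc, Category.assoc, Iso.inv_hom_id_assoc, hl]
      exact he
  have hZ : P i Z := (haff (A ⧸ c)).2 fun r hr => Ideal.Quotient.eq_zero_iff_mem.2 hr
  have key : ∀ T : Over (Spec (CommRingCat.of A)), P i T → Nonempty (T ⟶ Z) := by
    intro T hT
    let 𝒰 := T.left.affineCover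
    have hk : ∀ j, ∃ l : 𝒰.X j ⟶ Z.left, l ≫ Z.hom = 𝒰.f j ≫ T.hom := fun j => by
      obtain ⟨ψ, hψ⟩ := Spec.map_surjective (𝒰.f j ≫ T.hom)
      letI := ψ.hom.toAlgebra
      have h1 := P_of_hom i (Over.homMk (𝒰.f j) hψ.symm : Over.mk (Spec.map ψ) ⟶ T) hT
      obtain ⟨l, hl⟩ := (le_ker_iff_factor c ψ.hom).1 ((haff _).1 h1)
      exact ⟨l, hl.trans hψ⟩
    choose l hl using hk
    haveI : Mono Z.hom := inferInstance
    refine ⟨Over.homMk (𝒰.glueMorphisms l fun a b => ?_) (𝒰.hom_ext _ _ fun j => ?_)⟩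
    · rw [← cancel_mono Z.hom, Category.assoc, Category.assoc, hl, hl, pullback.condition_assoc]
    · rw [Scheme.Cover.ι_glueMorphisms_assoc, hl]
  let E : ∀ T : Over (Spec (CommRingCat.of A)), (T ⟶ Z) ≃ (FlatFun.genPSp (Spec (CommRingCat.of A)) (P i)).obj (op T) :=
    fun T =>
    { toFun := fun k => ⟨⟨⟨Z, k, hZ⟩⟩⟩
      invFun := fun x => (key T ((FlatFun.genPSp_nonempty_iff_of_stable _ (P_of_hom i) T).1 ⟨x⟩)).some
      left_inv := fun k => Over.OverMorphism.ext ((cancel_mono Z.hom).1 ((Over.w _).trans (Over.w k).symm))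
      right_inv := fun x => Subsingleton.elim _ _ }
  refine ⟨Z, hZi, ⟨{ homEquiv := fun {T} => E T, homEquiv_comp := fun _ _ => Subsingleton.elim _ _ }⟩, fun hlfp => ?_⟩
  have hJ : J.FG := by
    haveI : LocallyOfFinitePresentation (Spec.map (CommRingCat.ofHom ((Ideal.Quotient.mk J).comp (algebraMap A B)))) := by
      rw [CommRingCat.ofHom_comp, Spec.map_comp, show Spec.map (CommRingCat.ofHom (Ideal.Quotient.mk J)) = φ.inv ≫ i by
        rw [hφ, Iso.inv_hom_id_assoc], Category.assoc]
      infer_instance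
    have h3 := (HasRingHomProperty.Spec_iff (P := @LocallyOfFinitePresentation)).1 this
    haveI : Algebra.FinitePresentation A (B ⧸ J) := RingHom.finitePresentation_algebraMap.1 h3
    simpa [Ideal.mk_ker] using Algebra.FinitePresentation.ker_fG_of_surjective
      (Ideal.Quotient.mkₐ A J) (Ideal.Quotient.mkₐ_surjective A J)
  exact (HasRingHomProperty.Spec_iff (P := @LocallyOfFinitePresentation)).2
    (RingHom.FinitePresentation.of_surjective _ Ideal.Quotient.mk_surjective (by simpa [Ideal.mk_ker] using hcfg hJ))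

end Groth.Agent.WeilClosed4
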